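import Cfsg.Agent.H721.SR.Base
import Cfsg.Agent.LieClassical.OrthCore
import Cfsg.Prelude.Def_Classical

/-!
# TEAM SR: symplectic groups in characteristic two (S4971, S4970)

* `dye` : an isometry of an alternating nondegenerate form over a perfect field of characteristic two preserves a
  quadratic form with this polar form;
* `sr_psp_two` : the row, from the theorem on the orthogonal groups in characteristic two.
-/

set_option autoImplicit false

namespace Cfsg.Agent.H686.SR.Dye

open Module QuadraticMap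
open Cfsg.Agent.H721.SR Cfsg.Agent.LieClassical.OrthCore

section dye

variable {F V : Type*} [Field F] [CharP F 2] [AddCommGroup V] [Module F V] [FiniteDimensional F V]

/-- a quadratic form with given alternating polar form -/
theorem exists_quad (B : V →ₗ[F] V →ₗ[F] F) (halt : ∀ x, B x x = 0) :
    ∃ Q : QuadraticForm F V, ∀ x y, polar Q x y = B x y := by
  have hsymm : ∀ x y, B x y = B y x := by
    intro x y
    have h1 := halt (x + y)
    simp only [map_add, LinearMap.add_apply, halt, zero_add, add_zero] at h1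
    have h2 : B x y = -B y x := by linear_combination h1
    rw [h2, CharTwo.neg_eq]
  let b := Module.finBasis F V
  let C : V →ₗ[F] V →ₗ[F] F := b.constr F fun i => b.constr F fun j => if i < j then B (b i) (b j) else 0
  have hC : ∀ i j, C (b i) (b j) = if i < j then B (b i) (b j) else 0 := by
    intro i j
    simp only [C, Basis.constr_basis]
  have hCB : C + C.flip = B := by
    refine b.ext fun i => b.ext fun j => ?_
    rw [LinearMap.add_apply, LinearMap.add_apply, LinearMap.flip_apply, hC, hC]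
    rcases lt_trichotomy i j with h | h | h
    · rw [if_pos h, if_neg (not_lt.2 h.le), add_zero]
    · rw [h, if_neg (lt_irrefl _), add_zero, halt]
    · rw [if_neg (not_lt.2 h.le), if_pos h, zero_add, hsymm]
  refine ⟨LinearMap.BilinMap.toQuadraticMap C, fun x y => ?_⟩
  rw [LinearMap.BilinMap.polar_toQuadraticMap, ← hCB]
  rfl

/-- **Dye's theorem.** -/
theorem dye [PerfectRing F 2] (B : V →ₗ[F] V →ₗ[F] F) (halt : ∀ x, B x x = 0) (hnd : ∀ x, (∀ y, B x y = 0) → x = 0)
    (g : V ≃ₗ[F] V) (hg : ∀ x y, B (g x) (g y) = B x y) :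
    ∃ Q : QuadraticForm F V, (∀ x y, polar Q x y = B x y) ∧ ∀ x, Q (g x) = Q x := by
  obtain ⟨Q0, hQ0⟩ := exists_quad B halt
  have h2 : (2 : F) = 0 := CharTwo.two_eq_zero
  have hQadd : ∀ x y, Q0 (x + y) = Q0 x + Q0 y + B x y := fun x y => by rw [← hQ0, polar]; ring
  -- the difference
  have hadd : ∀ x y, Q0 (g (x + y)) + Q0 (x + y) = (Q0 (g x) + Q0 x) + (Q0 (g y) + Q0 y) := by
    intro x y
    rw [map_add, hQadd, hQadd, hg]
    linear_combination (B x y) * h2
  have hsmul : ∀ (a : F) x, Q0 (g (a • x)) + Q0 (a • x) = a ^ 2 * (Q0 (g x) + Q0 x) := by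
    intro a x
    rw [map_smul, QuadraticMap.map_smul, QuadraticMap.map_smul, smul_eq_mul, smul_eq_mul]
    ring
  let s : F ≃+* F := (frobeniusEquiv F 2).symm
  have hs : ∀ x, s x ^ 2 = x := fun x => frobeniusEquiv_symm_pow_p F 2 x
  have hs' : ∀ x, s (x ^ 2) = x := fun x => by
    have := hs (x ^ 2)
    have h3 : (s (x ^ 2) + x) ^ 2 = 0 := by
      rw [CharTwo.add_sq, this]
      exact CharTwo.add_self_eq_zero _
    have h4 := pow_eq_zero_iff (two_ne_zero) |>.1 h3
    exact CharTwo.add_eq_zero.1 h4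
  let lam : V →ₗ[F] F :=
    { toFun := fun x => s (Q0 (g x) + Q0 x)
      map_add' := fun x y => by rw [hadd, map_add]
      map_smul' := fun a x => by
        rw [hsmul, map_mul, hs', RingHom.id_apply, smul_eq_mul] }
  have hlam : ∀ x, lam x ^ 2 = Q0 (g x) + Q0 x := fun x => hs _
  -- the vector c
  have hinj : Function.Injective B := by
    rw [injective_iff_map_eq_zero]
    intro x hx
    exact hnd x fun y => by rw [hx]; rfl
  have hsurj : Function.Surjective B :=
    (LinearMap.injective_iff_surjective_of_finrank_eq_finrank (Subspace.dual_finrank_eq).symm).1 hinj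
  obtain ⟨c, hc⟩ := hsurj lam
  have hc' : ∀ x, B c x = lam x := fun x => by rw [hc]
  have hsymm : ∀ x y, B x y = B y x := by
    intro x y
    have h1 := halt (x + y)
    simp only [map_add, LinearMap.add_apply, halt, zero_add, add_zero] at h1
    have h2 : B x y = -B y x := by linear_combination h1
    rw [h2, CharTwo.neg_eq]
  -- c is in the range
  obtain ⟨a, ha⟩ : ∃ a, g.symm a + a = c := by
    by_contra hcon
    have hmem : c ∉ LinearMap.range ((g.symm : V →ₗ[F] V) + LinearMap.id) := by
      rintro ⟨a, ha⟩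
      exact hcon ⟨a, ha⟩
    obtain ⟨f, hf1, hf2⟩ := Submodule.exists_le_ker_of_notMem hmem
    obtain ⟨x, hx⟩ := hsurj f
    apply hf1
    have h3 : g x + x = 0 := by
      refine hnd _ fun y => ?_
      have h4 : f (g.symm y + y) = 0 := hf2 ⟨y, rfl⟩
      rw [← hx, map_add, ← hg x (g.symm y), LinearEquiv.apply_symm_apply] at h4
      rw [map_add, LinearMap.add_apply, h4]
    have h5 : g x = x := by
      rw [← sub_eq_zero, ← h3]
      rw [sub_eq_add_neg]
      congr 1
      have h6 : (2 : F) • x = 0 := by rw [h2, zero_smul]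
      rw [two_smul] at h6
      exact neg_eq_of_add_eq_zero_left h6
    have h7 : lam x ^ 2 = 0 := by
      rw [hlam, h5]
      exact CharTwo.add_self_eq_zero _
    have h8 : lam x = 0 := pow_eq_zero_iff (two_ne_zero) |>.1 h7
    rw [← hx, hsymm, hc', h8]
  let Q : QuadraticForm F V := Q0 + (QuadraticMap.sq (R := F)).comp (B a)
  have hQ : ∀ x, Q x = Q0 x + B a x * B a x := fun x => rfl
  refine ⟨Q, fun x y => ?_, fun x => ?_⟩
  · rw [polar, hQ, hQ, hQ, hQadd, map_add]
    linear_combination (B a x * B a y) * h2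
  · have h3 := hlam x
    rw [hQ, hQ]
    have h4 : B a (g x) = B (g.symm a) x := by
      rw [← hg (g.symm a) x, LinearEquiv.apply_symm_apply]
    have h5 : B a x = lam x + B (g.symm a) x := by
      rw [← hc', ← ha, map_add, LinearMap.add_apply]
      linear_combination -(B (g.symm a) x) * h2
    rw [h4, h5]
    linear_combination -h3 - (Q0 x + lam x * B (g.symm a) x) * h2

end dye

section row

variable {F : Type*} [Field F] [Finite F] [CharP F 2] {m : ℕ}

/-- the alternating form -/
noncomputable def sb (m : ℕ) (F : Type*) [Field F] : (Fin m ⊕ Fin m → F) →ₗ[F] (Fin m ⊕ Fin m → F) →ₗ[F] F :=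
  Matrix.toBilin' (Matrix.J (Fin m) F)

omit [Finite F] [CharP F 2] in
theorem sb_apply (x y : Fin m ⊕ Fin m → F) : sb m F x y =
    ∑ i : Fin m, (x (Sum.inr i) * y (Sum.inl i) - x (Sum.inl i) * y (Sum.inr i)) := by
  rw [sb, Matrix.toBilin'_apply', Matrix.J, Matrix.fromBlocks_mulVec]
  simp only [dotProduct, Fintype.sum_sum_type, Matrix.zero_mulVec, Matrix.neg_mulVec, Matrix.one_mulVec, zero_add,
    add_zero, Sum.elim_inl, Sum.elim_inr, Pi.neg_apply, Function.comp_apply]
  rw [Finset.sum_sub_distrib, add_comm, sub_eq_add_neg, ← Finset.sum_neg_distrib]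
  simp only [mul_neg]

omit [Finite F] [CharP F 2] in
theorem sb_self (x : Fin m ⊕ Fin m → F) : sb m F x x = 0 := by
  rw [sb_apply]
  refine Finset.sum_eq_zero fun i _ => ?_
  ring

omit [Finite F] [CharP F 2] in
theorem sb_nondeg (x : Fin m ⊕ Fin m → F) (h : ∀ y, sb m F x y = 0) : x = 0 := by
  classical
  funext i
  rcases i with i | i
  · have := h (Pi.single (Sum.inr i) 1)
    rw [sb_apply, Finset.sum_eq_single i] at this
    · simpa using this
    · intro j _ hj
      simp [hj]
    · intro hi; exact absurd (Finset.mem_univ _) hi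
  · have := h (Pi.single (Sum.inl i) 1)
    rw [sb_apply, Finset.sum_eq_single i] at this
    · simpa using this
    · intro j _ hj
      simp [hj]
    · intro hi; exact absurd (Finset.mem_univ _) hi

omit [Finite F] [CharP F 2] in
theorem mem_iff {A : Matrix (Fin m ⊕ Fin m) (Fin m ⊕ Fin m) F} :
    A ∈ Matrix.symplecticGroup (Fin m) F ↔
      ∀ x y, sb m F (Matrix.toLin' A x) (Matrix.toLin' A y) = sb m F x y := by
  rw [SymplecticGroup.mem_iff', ← Matrix.toBilin'.injective.eq_iff, ← Matrix.toBilin'_comp]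
  constructor
  · intro h x y
    exact LinearMap.congr_fun₂ h x y
  · intro h
    exact LinearMap.ext₂ h

/-- the orthogonal input: an isometry of a nondegenerate quadratic form is inverted by an isometry with square one -/
def Inp (F : Type*) [Field F] (m : ℕ) : Prop :=
  ∀ (Q : QuadraticForm F (Fin m ⊕ Fin m → F)), (∀ x, (∀ y, polar Q x y = 0) → x = 0) →
    ∀ g ∈ O Q, ∃ h ∈ O Q, h * h = 1 ∧ h * g * h⁻¹ = g⁻¹

theorem sr_sp_two (hI : Inp F m) (A : Matrix.symplecticGroup (Fin m) F) : SR A := by
  have := Fintype.ofFinite F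
  -- the linear equivalence
  let e : Matrix.symplecticGroup (Fin m) F → ((Fin m ⊕ Fin m → F) ≃ₗ[F] (Fin m ⊕ Fin m → F)) := fun A =>
    LinearEquiv.ofLinearMap (Matrix.toLin' (A : Matrix _ _ F)) (Matrix.toLin' ((A⁻¹ : Matrix.symplecticGroup (Fin m) F) : Matrix _ _ F))
      (by rw [← Matrix.toLin'_mul, ← Submonoid.coe_mul, mul_inv_cancel]; exact Matrix.toLin'_one)
      (by rw [← Matrix.toLin'_mul, ← Submonoid.coe_mul, inv_mul_cancel]; exact Matrix.toLin'_one)
  have he : ∀ A x, e A x = Matrix.toLin' (A : Matrix _ _ F) x := fun _ _ => rfl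
  obtain ⟨Q, hQ1, hQ2⟩ := dye (sb m F) sb_self sb_nondeg (e A) (fun x y => mem_iff.1 A.2 x y)
  obtain ⟨h, hh, h1, h2⟩ := hI Q (fun x hx => sb_nondeg x fun y => by rw [← hQ1, hx]) (e A) (mem_O.2 hQ2)
  have hB : ∀ x y, sb m F (h x) (h y) = sb m F x y := fun x y => by
    rw [← hQ1, ← hQ1]
    exact polar_map hh x y
  let H : Matrix (Fin m ⊕ Fin m) (Fin m ⊕ Fin m) F := LinearMap.toMatrix' (h : _ →ₗ[F] _)
  have hH : Matrix.toLin' H = (h : (Fin m ⊕ Fin m → F) →ₗ[F] (Fin m ⊕ Fin m → F)) := Matrix.toLin'_toMatrix' _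
  have hHm : H ∈ Matrix.symplecticGroup (Fin m) F := mem_iff.2 fun x y => by
    rw [hH]
    exact hB x y
  have hHH : (⟨H, hHm⟩ : Matrix.symplecticGroup (Fin m) F) * ⟨H, hHm⟩ = 1 := by
    apply Subtype.ext
    change H * H = 1
    apply Matrix.toLin'.injective
    rw [Matrix.toLin'_mul, hH, Matrix.toLin'_one]
    exact LinearMap.ext fun x => LinearEquiv.congr_fun h1 x
  refine ⟨⟨H, hHm⟩, hHH, ?_⟩
  rw [mul_inv_eq_iff_eq_mul]
  have h3 : h * e A = (e A)⁻¹ * h := by rw [← h2]; group
  apply Subtype.ext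
  change H * (A : Matrix _ _ F) = ((A⁻¹ : Matrix.symplecticGroup (Fin m) F) : Matrix _ _ F) * H
  apply Matrix.toLin'.injective
  rw [Matrix.toLin'_mul, Matrix.toLin'_mul, hH]
  refine LinearMap.ext fun x => ?_
  exact LinearEquiv.congr_fun h3 x

/-- **The row**: all elements of `PSp_{2m}(F)`, `F` of characteristic two, are strongly real. -/
theorem sr_psp_two (hI : Inp F m) (x : Cfsg.PSp m F) : SR x := by
  obtain ⟨A, rfl⟩ := QuotientGroup.mk'_surjective _ x
  exact (sr_sp_two hI A).map _

end row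

end Cfsg.Agent.H686.SR.Dye
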